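import Cfsg.Agent.Lib.Recog.ThreeOrders.CaseII.Spec
import Cfsg.Agent.Lib.Recog.ThreeOrders.CIT
import Cfsg.Agent.Lib.Recog.ThreeOrders.Cover
import Mathlib.GroupTheory.Transfer
import Mathlib.Algebra.Ring.GeomSum

/-!
# The second case: the cores are trivial and the socle is simple
-/

set_option autoImplicit false
set_option linter.unusedSectionVars false
set_option linter.style.haveILetI false

namespace CfsgLib.Recog.ThreeOrders

open Subgroup CfsgLib.Invol
open scoped IsMulCommutative

universe u

variable {G : Type u} [Group G] [Finite G] {s : ℕ}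

namespace Spec

variable (h : Spec G s)
include h

theorem two_normal_eq_bot (hns : ¬ Group.IsSolvable G) {W : Subgroup G} (hW : W.Normal)
    (hW2 : IsPGroup 2 W) : W = ⊥ := by
  haveI : Fact (Nat.Prime 2) := ⟨Nat.prime_two⟩
  haveI := hW
  by_contra hne
  obtain ⟨w, hw, hw1⟩ := W.bot_or_exists_ne_one.resolve_left hne
  obtain ⟨k, hk⟩ := hW2 ⟨w, hw⟩
  have hw2 : orderOf w = 2 := invol_of_mul_self (h.sq_of_two_pow ⟨k, congrArg Subtype.val hk⟩) hw1
  haveI := h.ics w hw2
  haveI : Group.IsSolvable (centralizer (W : Set G)) :=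
    Group.isSolvable_of_isSolvable_injective (inclusion_injective
      (show centralizer (W : Set G) ≤ centralizer ({w} : Set G) from
        Subgroup.centralizer_le (Set.singleton_subset_iff.2 hw)))
  haveI : (centralizer (W : Set G)).Normal := normal_centralizer
  obtain ⟨T⟩ : Nonempty (Sylow 2 G) := inferInstance
  have hWT : W ≤ (T : Subgroup G) := hW2.le_sylow_of_normal T
  have hTC : (T : Subgroup G) ≤ centralizer (W : Set G) := fun t ht =>
    mem_centralizer_iff.2 fun x hx => (h.sylow_comm T (hWT hx) ht).eq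
  have : Group.IsSolvable (G ⧸ centralizer (W : Set G)) := CfsgLib.FT.odd_order_solvable (by
    rw [← Subgroup.index_eq_card, ← Nat.not_even_iff_odd, even_iff_two_dvd]
    exact fun hd => T.not_dvd_index (hd.trans (Subgroup.index_dvd_of_le hTC)))
  exact hns (Group.isSolvable_of_ker_le_range (centralizer (W : Set G)).subtype
    (QuotientGroup.mk' (centralizer (W : Set G))) (by rw [QuotientGroup.ker_mk', Subgroup.range_subtype]))

/-- An element of odd prime order acting on a Sylow 2-subgroup, not trivially. -/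
theorem exists_mover (hns : ¬ Group.IsSolvable G) (T : Sylow 2 G) :
    ∃ (y : G) (r : ℕ), r.Prime ∧ r ≠ 2 ∧ orderOf y = r ∧
      (∀ t ∈ (T : Subgroup G), y * t * y⁻¹ ∈ (T : Subgroup G)) ∧
      ∃ t ∈ (T : Subgroup G), ¬ Commute y t := by
  classical
  haveI : Fact (Nat.Prime 2) := ⟨Nat.prime_two⟩
  by_contra hall
  push Not at hall
  set N := Subgroup.normalizer ((T : Subgroup G) : Set G)
  set C := centralizer ((T : Subgroup G) : Set G)
  have hprime : ∀ (y : G) (r : ℕ), y ∈ N → r.Prime → r ≠ 2 → orderOf y = r → y ∈ C :=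
    fun y r hy hr hr2 hyo => mem_centralizer_iff.2 fun t ht => (hall y r hr hr2 hyo
      (fun t ht => (Subgroup.mem_normalizer_iff.1 hy t).1 ht) t ht).eq.symm
  obtain ⟨t0, ht0⟩ := h.exists_invol
  have hinvolC : ∀ y ∈ N, y * y = 1 → y ∈ C := by
    intro y hy hy2
    have hyT : y ∈ (T : Subgroup G) := by
      have hp : IsPGroup 2 (zpowers y) := fun z => ⟨1, Subtype.ext (by
        obtain ⟨i, hi⟩ := z.2
        rw [SubgroupClass.coe_pow, pow_one, ← hi, pow_two]
        show y ^ i * y ^ i = 1
        rw [← (Commute.refl y).mul_zpow, hy2, one_zpow])⟩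
      have hsup : IsPGroup 2 ↥(zpowers y ⊔ (T : Subgroup G)) :=
        hp.to_sup_of_normal_right' T.isPGroup' (zpowers_le.2 hy)
      exact T.is_maximal' hsup le_sup_right ▸ mem_sup_left (mem_zpowers y)
    exact mem_centralizer_iff.2 fun t ht => (h.sylow_comm T ht hyT).eq
  have hle : N ≤ C := by
    intro y hy
    by_cases hy1 : y = 1
    · exact hy1 ▸ one_mem C
    obtain ⟨p, hp, hpd⟩ := Nat.exists_prime_and_dvd (fun e => hy1 (orderOf_eq_one_iff.1 e))
    rcases h.h3.shape hp hpd with e | ⟨r, hr, e⟩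
    · by_cases hp2 : p = 2
      · exact hinvolC y hy (invol_mul_self (hp2 ▸ e))
      · exact hprime y p hy hp hp2 e
    by_cases hpr : p = r
    · -- order `p * p`
      subst hpr
      have hp2 : p ≠ 2 := fun e2 => h.four y (by rw [e, e2])
      have hyp : orderOf (y ^ p) = p := by
        rw [orderOf_pow, e, Nat.gcd_eq_right (dvd_mul_right p p), Nat.mul_div_cancel _ hp.pos]
      have hypC := hprime (y ^ p) p (pow_mem hy p) hp hp2 hyp
      obtain ⟨t1, ht1, ht1'⟩ : ∃ t1 ∈ (T : Subgroup G), orderOf t1 = 2 := by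
        obtain ⟨g, hg⟩ := exists_conj_invol_mem_sylow T ht0
        exact ⟨_, hg, by rw [orderOf_conj_eq, ht0]⟩
      have hps : p = s := h.prime_eq_of_commute hp hp2 hyp ht1'
        (mem_centralizer_iff.1 hypC t1 ht1).symm
      subst hps
      exfalso
      have := h.hs.two_le
      rcases h.s_order (e ▸ dvd_mul_right p p) with e' | e' <;> rw [e] at e'
      · nlinarith
      · exact hp2 (Nat.eq_of_mul_eq_mul_right hp.pos e')
    -- the two primary parts
    have key : ∀ {a b : ℕ}, a.Prime → orderOf y = a * b → y ^ b ∈ C := by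
      intro a b ha hab
      have hb0 : 0 < b := Nat.pos_of_ne_zero fun e0 => (orderOf_pos y).ne' (by rw [hab, e0, mul_zero])
      have ho : orderOf (y ^ b) = a := by
        rw [orderOf_pow, hab, Nat.gcd_eq_right (dvd_mul_left b a), Nat.mul_div_cancel _ hb0]
      by_cases ha2 : a = 2
      · exact hinvolC _ (pow_mem hy b) (invol_mul_self (ha2 ▸ ho))
      · exact hprime _ a (pow_mem hy b) ha ha2 ho
    have h1 := key hp e
    have h2 := key hr (e.trans (mul_comm p r))
    obtain ⟨i, j, hij⟩ : ∃ i j : ℤ, (r : ℤ) * i + (p : ℤ) * j = 1 := by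
      have hcop : Nat.Coprime r p := (Nat.coprime_primes hr hp).2 (Ne.symm hpr)
      exact ⟨Nat.gcdA r p, Nat.gcdB r p, by rw [← Nat.gcd_eq_gcd_ab, hcop.gcd_eq_one]; rfl⟩
    have : y = (y ^ r) ^ i * (y ^ p) ^ j := by
      rw [← zpow_natCast y r, ← zpow_natCast y p, ← zpow_mul, ← zpow_mul, ← zpow_add, hij, zpow_one]
    rw [this]
    exact mul_mem (zpow_mem h1 i) (zpow_mem h2 j)
  have hker := MonoidHom.ker_transferSylow_isComplement' T hle
  refine hns ?_
  have : Group.IsSolvable (MonoidHom.transferSylow T hle).ker := CfsgLib.FT.odd_order_solvable (by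
    have h2 := MonoidHom.not_dvd_card_ker_transferSylow T hle
    rwa [← Nat.not_even_iff_odd, even_iff_two_dvd])
  haveI := T.isPGroup'.isNilpotent
  exact Group.isSolvable_of_ker_le_range (MonoidHom.transferSylow T hle).ker.subtype
    (MonoidHom.transferSylow T hle) (by rw [Subgroup.range_subtype])

theorem odd_normal_eq_bot (hns : ¬ Group.IsSolvable G) {N : Subgroup G} (hN : N.Normal)
    (hodd : Odd (Nat.card N)) : N = ⊥ := by
  classical
  by_contra hne
  obtain ⟨V, hVn, hV1, hVN, hmin⟩ := CfsgLib.Solvable.exists_minimal_normal_le hN hne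
  haveI := hVn
  haveI : Group.IsSolvable N := CfsgLib.FT.odd_order_solvable hodd
  haveI : Group.IsSolvable V := Group.isSolvable_of_isSolvable_injective (inclusion_injective hVN)
  obtain ⟨p, hp, -, hexp, hab⟩ := CfsgLib.Solvable.exists_isPGroup_of_minimal_normal hV1 hmin
  haveI := hab
  have hVodd : ∀ v ∈ V, Odd (orderOf v) := fun v hv =>
    hodd.of_dvd_nat (Subgroup.orderOf_dvd_natCard N (hVN hv))
  obtain ⟨v0, hv0, hv01⟩ := V.bot_or_exists_ne_one.resolve_left hV1
  have hord : ∀ v ∈ V, v ≠ 1 → orderOf v = p := fun v hv hv1 =>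
    (Fact.mk hp |> fun hh => @orderOf_eq_prime G _ v p hh (hexp v hv) hv1)
  have hp2 : p ≠ 2 := fun e => by
    have := hVodd v0 hv0
    rw [hord v0 hv0 hv01, e] at this
    exact absurd this (by decide)
  have hcomm : ∀ a ∈ V, ∀ b ∈ V, Commute a b := fun a ha b hb =>
    congrArg Subtype.val (hab.is_comm.comm (⟨a, ha⟩ : V) ⟨b, hb⟩)
  haveI : Fact (Nat.Prime 2) := ⟨Nat.prime_two⟩
  obtain ⟨T⟩ : Nonempty (Sylow 2 G) := inferInstance
  obtain ⟨y, r, hr, hr2, hy, hyT, t, ht, hnc⟩ := h.exists_mover hns T
  set u : G := t * (y * t * y⁻¹) with hu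
  have huT : u ∈ (T : Subgroup G) := mul_mem ht (hyT t ht)
  have hu1 : u ≠ 1 := fun e => hnc (mul_inv_eq_iff_eq_mul.1
    ((eq_inv_of_mul_eq_one_right e).trans (inv_eq_of_mul_eq_one_right (h.sylow_sq T ht))))
  have hu2 : orderOf u = 2 := invol_of_mul_self (h.sylow_sq T huT) hu1
  -- the exponent of `V` is `s`
  have hps : p = s := by
    by_contra hne'
    have hinv : ∀ e : G, orderOf e = 2 → ∀ n ∈ V, e * n * e⁻¹ = n⁻¹ := fun e he =>
      CfsgLib.Invol.CIT.inverts_of_fpf he fun n hn en => by
        by_contra hn1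
        exact hne' (h.prime_eq_of_commute hp hp2 (hord n hn hn1) he
          (mul_inv_eq_iff_eq_mul.1 en).symm)
    have hto : orderOf t = 2 :=
      invol_of_mul_self (h.sylow_sq T ht) fun e => hnc (e ▸ Commute.one_right y)
    have e1 := hinv _ ((orderOf_conj_eq y t).trans hto) v0 hv0
    have e2 := hinv _ hto v0⁻¹ (inv_mem hv0)
    rw [inv_inv] at e2
    refine hne' (h.prime_eq_of_commute hp hp2 (hord v0 hv0 hv01) hu2 ?_)
    refine (mul_inv_eq_iff_eq_mul.1 (?_ : u * v0 * u⁻¹ = v0)).symm
    calc u * v0 * u⁻¹ = t * (y * t * y⁻¹ * v0 * (y * t * y⁻¹)⁻¹) * t⁻¹ := by rw [hu]; group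
      _ = v0 := by rw [e1, e2]
  subst hps
  -- the orbit products are trivial
  let f : G →* AddMonoid.End (Additive V) := toEnd (MulAut.conjNormal : G →* MulAut V)
  have hcoe : ∀ (g : G) (v : Additive V),
      ((Additive.toMul (f g v) : V) : G) = g * ((Additive.toMul v : V) : G) * g⁻¹ :=
    fun g v => MulAut.conjNormal_apply g _
  have hsum : ∑ i ∈ Finset.range r, f y ^ i = 0 := by
    refine AddMonoidHom.ext fun v => ?_
    set w := (∑ i ∈ Finset.range r, f y ^ i) v with hw
    have hfix : f y w = w := by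
      have h0 : (f y - 1) * ∑ i ∈ Finset.range r, f y ^ i = 0 := by
        rw [mul_geom_sum, ← map_pow, ← hy, pow_orderOf_eq_one, map_one, sub_self]
      exact sub_eq_zero.1 (DFunLike.congr_fun h0 v)
    have hprod : ∀ k, (((Additive.toMul v : V) : G) * y) ^ k =
        ((Additive.toMul ((∑ i ∈ Finset.range k, f y ^ i) v) : V) : G) * y ^ k := by
      intro k
      induction k with
      | zero => simp
      | succ k ih =>
        rw [pow_succ, ih, Finset.sum_range_succ, pow_succ y k, ← map_pow]
        show _ = ((Additive.toMul ((∑ i ∈ Finset.range k, f y ^ i) v + f (y ^ k) v) : V) : G) * (y ^ k * y)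
        rw [toMul_add, Subgroup.coe_mul, hcoe]
        group
    by_contra hw0
    have hwV : ((Additive.toMul w : V) : G) ≠ 1 := fun e =>
      hw0 (congrArg Additive.ofMul (Subtype.ext e : Additive.toMul w = 1))
    have hwo := hord _ (Additive.toMul w : V).2 hwV
    have hcw : Commute y ((Additive.toMul w : V) : G) := by
      have e := hcoe y w
      rw [hfix] at e
      exact mul_inv_eq_iff_eq_mul.1 e.symm
    rcases h.prime_of_commute_s hr hy hwo hcw with e | e
    · exact hr2 e
    subst e
    have hpw : (((Additive.toMul v : V) : G) * y) ^ r = ((Additive.toMul w : V) : G) := by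
      rw [hprod r, ← hw, ← hy, pow_orderOf_eq_one, mul_one]
    have ho : orderOf (((Additive.toMul v : V) : G) * y) = r ^ 2 := by
      haveI := Fact.mk hr
      refine orderOf_eq_prime_pow (by rw [pow_one, hpw]; exact hwV) ?_
      rw [pow_two, pow_mul, hpw, hexp _ (Additive.toMul w : V).2]
    have := h.hs.two_le
    rcases h.s_order (ho ▸ dvd_pow_self r (by norm_num)) with e' | e' <;> rw [ho] at e'
    · nlinarith
    · rw [pow_two] at e'
      exact hr2 (Nat.eq_of_mul_eq_mul_right hr.pos e')
  by_cases hfix : ∀ v : Additive V, f u v = v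
  · -- `u` centralises `V`
    set K := centralizer (V : Set G)
    haveI : K.Normal := normal_centralizer
    have huK : u ∈ K := mem_centralizer_iff.2 fun x hx => by
      have e := hcoe u (Additive.ofMul ⟨x, hx⟩)
      rw [hfix] at e
      exact (mul_inv_eq_iff_eq_mul.1 e.symm).symm
    have hKs : Group.IsSolvable K := h.centralizer_s_solvable (hord v0 hv0 hv01) fun x hx =>
      (mem_centralizer_iff.1 hx v0 hv0).symm
    obtain ⟨P⟩ : Nonempty (Sylow 2 K) := inferInstance
    set P' := (P : Subgroup K).map K.subtype with hP'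
    obtain ⟨T', hT'⟩ := (P.isPGroup'.map K.subtype).exists_le_sylow
    obtain ⟨⟨d, hdP⟩, hd1⟩ : ∃ d : P', d ≠ 1 := by
      haveI : Nontrivial P' := by
        rw [Subgroup.nontrivial_iff_ne_bot, hP', Ne,
          Subgroup.map_eq_bot_iff_of_injective _ K.subtype_injective]
        refine P.ne_bot_of_dvd_card ?_
        rw [← hu2]
        exact Subgroup.orderOf_dvd_natCard K huK
      exact exists_ne 1
    have hd2 : orderOf d = 2 := invol_of_mul_self (h.sylow_sq T' (hT' hdP)) fun e => hd1 (Subtype.ext e)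
    have := h.ics d hd2
    set N := Subgroup.normalizer (P' : Set G)
    have hNs : Group.IsSolvable N := by
      have hTN : (T' : Subgroup G) ≤ N := fun x hx => Subgroup.centralizer_le_normalizer _
        (mem_centralizer_iff.2 fun z hz => (h.sylow_comm T' (hT' hz) hx).eq)
      set C := (centralizer (P' : Set G)).subgroupOf N
      haveI : C.Normal := by
        refine ⟨fun c hc g => ?_⟩
        rw [Subgroup.mem_subgroupOf] at hc ⊢
        refine mem_centralizer_iff.2 fun z hz => ?_
        have hz' := (Subgroup.mem_normalizer_iff.1 (inv_mem g.2) z).1 hz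
        rw [inv_inv] at hz'
        have := mem_centralizer_iff.1 hc _ hz'
        simp only [Subgroup.coe_mul, Subgroup.coe_inv]
        calc z * ((g : G) * c * (g : G)⁻¹) = g * ((g : G)⁻¹ * z * g * c) * (g : G)⁻¹ := by group
          _ = _ := by rw [this]; group
      have hC : Group.IsSolvable C := by
        have : Group.IsSolvable (centralizer (P' : Set G)) :=
          Group.isSolvable_of_isSolvable_injective (inclusion_injective
            (show centralizer (P' : Set G) ≤ centralizer ({d} : Set G) from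
              Subgroup.centralizer_le (Set.singleton_subset_iff.2 hdP)))
        exact Group.isSolvable_of_isSolvable_injective
          (f := (N.subtype.comp C.subtype).codRestrict (centralizer (P' : Set G)) fun c =>
              Subgroup.mem_subgroupOf.1 c.2)
          fun a b e => Subtype.ext (Subtype.ext (congrArg Subtype.val e :))
      have hQ : Group.IsSolvable (N ⧸ C) := CfsgLib.FT.odd_order_solvable (by
        rw [← Subgroup.index_eq_card, ← Nat.not_even_iff_odd, even_iff_two_dvd]
        intro hd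
        have h1 : (T' : Subgroup G).subgroupOf N ≤ C := fun x hx => by
          rw [Subgroup.mem_subgroupOf] at hx ⊢
          exact mem_centralizer_iff.2 fun z hz => (h.sylow_comm T' (hT' hz) hx).eq
        have h2 := hd.trans (Subgroup.index_dvd_of_le h1)
        exact T'.not_dvd_index (h2.trans (Subgroup.relIndex_dvd_index_of_le hTN)))
      exact Group.isSolvable_of_ker_le_range C.subtype (QuotientGroup.mk' C)
        (by rw [QuotientGroup.ker_mk', Subgroup.range_subtype])
    have htop : N ⊔ K = ⊤ := P.normalizer_sup_eq_top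
    have hsurj : Function.Surjective ((QuotientGroup.mk' K).comp N.subtype) := by
      intro q
      obtain ⟨g, rfl⟩ := QuotientGroup.mk'_surjective K q
      obtain ⟨a, ha, b, hb, rfl⟩ := Subgroup.mem_sup_of_normal_right.1 (htop ▸ mem_top g)
      refine ⟨⟨a, ha⟩, ?_⟩
      show QuotientGroup.mk' K a = QuotientGroup.mk' K (a * b)
      rw [map_mul, QuotientGroup.mk'_apply _ b, (QuotientGroup.eq_one_iff b).2 hb, mul_one]
    have : Group.IsSolvable (G ⧸ K) := Group.isSolvable_of_surjective hsurj
    exact hns (Group.isSolvable_of_ker_le_range K.subtype (QuotientGroup.mk' K)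
      (by rw [QuotientGroup.ker_mk', Subgroup.range_subtype]))
  push Not at hfix
  obtain ⟨v, hv⟩ := hfix
  have hff : ∀ a ∈ (T : Subgroup G), ∀ x, f a (f a x) = x := fun a ha x => by
    show (f a * f a) x = x
    rw [← map_mul, h.sylow_sq T ha, map_one]
    rfl
  have hfc : ∀ a ∈ (T : Subgroup G), ∀ b ∈ (T : Subgroup G), ∀ x, f a (f b x) = f b (f a x) :=
    fun a ha b hb x => by
      show (f a * f b) x = (f b * f a) x
      rw [← map_mul, ← map_mul, (h.sylow_comm T ha hb).eq]
  -- a common eigenvector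
  have heig : ∀ A : Finset G, (∀ a ∈ A, a ∈ (T : Subgroup G)) →
      ∃ w, w ≠ 0 ∧ f u w = -w ∧ ∀ a ∈ A, f a w = w ∨ f a w = -w := by
    intro A
    induction A using Finset.induction_on with
    | empty =>
      exact fun _ => ⟨v - f u v, sub_ne_zero.2 (Ne.symm hv), by rw [map_sub, hff u huT, neg_sub],
        fun a ha => absurd ha (Finset.notMem_empty a)⟩
    | @insert a A _ ih =>
      intro hA
      obtain ⟨w, hw0, hwu, hwA⟩ := ih fun b hb => hA b (Finset.mem_insert_of_mem hb)
      have haT := hA a (Finset.mem_insert_self a A)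
      by_cases hw : f a w + w = 0
      · refine ⟨w, hw0, hwu, fun b hb => ?_⟩
        rcases Finset.mem_insert.1 hb with rfl | hb
        · exact Or.inr (eq_neg_of_add_eq_zero_left hw)
        · exact hwA b hb
      refine ⟨f a w + w, hw, by rw [map_add, hfc u huT a haT, hwu, map_neg, neg_add], fun b hb => ?_⟩
      rcases Finset.mem_insert.1 hb with rfl | hb
      · exact Or.inl (by rw [map_add, hff b haT, add_comm])
      · have hbT := hA b (Finset.mem_insert_of_mem hb)
        rcases hwA b hb with e | e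
        · exact Or.inl (by rw [map_add, hfc b hbT a haT, e])
        · exact Or.inr (by rw [map_add, hfc b hbT a haT, e, map_neg, neg_add])
  haveI := Fintype.ofFinite G
  obtain ⟨w, hw0, hwu, hwA⟩ := heig (Finset.univ.filter (· ∈ (T : Subgroup G)))
    fun a ha => (Finset.mem_filter.1 ha).2
  have hlam : ∀ a, ∃ l : ℤ, (l = 1 ∨ l = -1) ∧ (a ∈ (T : Subgroup G) → f a w = l • w) := fun a => by
    by_cases ha : a ∈ (T : Subgroup G)
    · rcases hwA a (Finset.mem_filter.2 ⟨Finset.mem_univ a, ha⟩) with e | e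
      · exact ⟨1, Or.inl rfl, fun _ => by rw [one_smul, e]⟩
      · exact ⟨-1, Or.inr rfl, fun _ => by rw [neg_one_smul, e]⟩
    · exact ⟨1, Or.inl rfl, fun h' => absurd h' ha⟩
  choose l hl hlw using hlam
  have hord2 : ∀ k : ℕ, ((2 : ℤ) ^ k) • w ≠ 0 := fun k e => by
    have hwV : ((Additive.toMul w : V) : G) ≠ 1 := fun e' =>
      hw0 (congrArg Additive.ofMul (Subtype.ext e' : Additive.toMul w = 1))
    have e' : ((Additive.toMul w : V) : G) ^ (2 ^ k) = 1 := by
      have := congrArg (fun z : Additive V => ((Additive.toMul z : V) : G)) e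
      rw [show ((2 : ℤ) ^ k) = ((2 ^ k : ℕ) : ℤ) by push_cast; rfl, natCast_zsmul] at this
      simpa using this
    exact hwV (CfsgLib.Invol.CIT.eq_one_of_two_pow_of_odd ⟨k, e'⟩ (hVodd _ (Additive.toMul w : V).2))
  -- transport of the signs along the orbit
  have hconj : ∀ a ∈ (T : Subgroup G), ∀ i : ℕ, (y ^ i)⁻¹ * a * y ^ i ∈ (T : Subgroup G) := by
    intro a ha i
    have hall : ∀ k : ℕ, ∀ b ∈ (T : Subgroup G), y ^ k * b * (y ^ k)⁻¹ ∈ (T : Subgroup G) := by
      intro k
      induction k with
      | zero => simp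
      | succ k ih =>
        intro b hb
        rw [show y ^ (k + 1) * b * (y ^ (k + 1))⁻¹ = y ^ k * (y * b * y⁻¹) * (y ^ k)⁻¹ by
          rw [pow_succ]; group]
        exact ih _ (hyT b hb)
    obtain ⟨k, hk⟩ : ∃ k : ℕ, y ^ k = (y ^ i)⁻¹ :=
      ⟨i * (r - 1), eq_inv_of_mul_eq_one_left (by
        rw [← pow_add, show i * (r - 1) + i = r * i by
          rw [← Nat.mul_succ, mul_comm, Nat.succ_eq_add_one, Nat.sub_add_cancel hr.pos], pow_mul, ← hy,
          pow_orderOf_eq_one, one_pow])⟩
    have := hall k a ha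
    rwa [hk, inv_inv] at this
  have hmove : ∀ a ∈ (T : Subgroup G), ∀ i : ℕ,
      f a ((f y ^ i) w) = l ((y ^ i)⁻¹ * a * y ^ i) • (f y ^ i) w := by
    intro a ha i
    rw [← map_zsmul (f y ^ i), ← hlw _ (hconj a ha i), ← map_pow]
    show (f a * f (y ^ i)) w = (f (y ^ i) * f ((y ^ i)⁻¹ * a * y ^ i)) w
    rw [← map_mul, ← map_mul]
    congr 2
    group
  have hsep : ∀ j, 0 < j → j < r → ∃ a ∈ (T : Subgroup G), l a * l ((y ^ j)⁻¹ * a * y ^ j) = -1 := by
    intro j hj0 hjr
    by_contra hno
    push Not at hno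
    have hsame : ∀ a ∈ (T : Subgroup G), l ((y ^ j)⁻¹ * a * y ^ j) = l a := fun a ha => by
      rcases hl a with e | e <;> rcases hl ((y ^ j)⁻¹ * a * y ^ j) with e' | e' <;>
        first | exact e'.trans e.symm | exact absurd (by rw [e, e']; norm_num) (hno a ha)
    have hiter : ∀ k : ℕ, ∀ a ∈ (T : Subgroup G), l ((y ^ (j * k))⁻¹ * a * y ^ (j * k)) = l a := by
      intro k
      induction k with
      | zero => simp
      | succ k ih =>
        intro a ha
        rw [Nat.mul_succ, pow_add, show (y ^ (j * k) * y ^ j)⁻¹ * a * (y ^ (j * k) * y ^ j) =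
          (y ^ j)⁻¹ * ((y ^ (j * k))⁻¹ * a * y ^ (j * k)) * y ^ j by group,
          hsame _ (hconj a ha _), ih a ha]
    haveI := Fact.mk hr
    have hj : (j : ZMod r) ≠ 0 := fun e =>
      Nat.not_dvd_of_pos_of_lt hj0 hjr ((ZMod.natCast_eq_zero_iff j r).1 e)
    set k := (-(j : ZMod r)⁻¹).val
    have hk : y ^ (j * k) = y⁻¹ := by
      refine eq_inv_of_mul_eq_one_left ?_
      rw [← pow_succ]
      refine orderOf_dvd_iff_pow_eq_one.1 ?_
      rw [hy, ← ZMod.natCast_eq_zero_iff, Nat.cast_add, Nat.cast_mul, ZMod.natCast_zmod_val,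
        mul_neg, mul_inv_cancel₀ hj, Nat.cast_one, neg_add_cancel]
    have h1 := hiter k t ht
    rw [hk, inv_inv] at h1
    have h2 : f u w = (l t * l t) • w := by
      rw [hu, map_mul]
      show f t (f (y * t * y⁻¹) w) = _
      rw [hlw _ (hyT t ht), h1, map_zsmul, hlw t ht, smul_smul]
    have h3 : l t * l t = 1 := by rcases hl t with e | e <;> rw [e] <;> rfl
    rw [h3, one_smul, hwu] at h2
    refine hord2 1 ?_
    rw [pow_one, two_zsmul]
    nth_rewrite 1 [← h2]
    exact neg_add_cancel w
  -- all terms but the first can be removed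
  have key : ∀ S : Finset ℕ, (∀ i ∈ S, 0 < i ∧ i < r) → ∃ (c : ℕ → ℤ) (k : ℕ), c 0 = 2 ^ k ∧
      (∀ i ∈ S, c i = 0) ∧ ∑ i ∈ Finset.range r, c i • (f y ^ i) w = 0 := by
    intro S
    induction S using Finset.induction_on with
    | empty =>
      refine fun _ => ⟨fun _ => 1, 0, rfl, fun i hi => absurd hi (Finset.notMem_empty i), ?_⟩
      simp only [one_smul]
      have e : ∀ n, (∑ i ∈ Finset.range n, f y ^ i) w = ∑ i ∈ Finset.range n, (f y ^ i) w := by
        intro n
        induction n with
        | zero => rfl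
        | succ n ihn =>
          rw [Finset.sum_range_succ, Finset.sum_range_succ, ← ihn]
          rfl
      rw [← e, hsum]
      rfl
    | @insert j S _ ih =>
      intro hS
      obtain ⟨c, k, hc0, hcS, hcsum⟩ := ih fun i hi => hS i (Finset.mem_insert_of_mem hi)
      obtain ⟨a, ha, hla⟩ := hsep j (hS j (Finset.mem_insert_self j S)).1
        (hS j (Finset.mem_insert_self j S)).2
      have hl0 : l a * l a = 1 := by rcases hl a with e | e <;> rw [e] <;> rfl
      refine ⟨fun i => c i * (1 + l a * l ((y ^ i)⁻¹ * a * y ^ i)), k + 1, ?_, ?_, ?_⟩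
      · simp only [pow_zero, inv_one, one_mul, mul_one, hl0, hc0, pow_succ]
        norm_num
      · intro i hi
        show c i * _ = 0
        rcases Finset.mem_insert.1 hi with rfl | hi
        · rw [hla]; norm_num
        · rw [hcS i hi, zero_mul]
      · have h1 : f a (∑ i ∈ Finset.range r, c i • (f y ^ i) w) = 0 := by rw [hcsum, map_zero]
        rw [map_sum] at h1
        simp only [map_zsmul, hmove a ha, smul_smul] at h1
        calc ∑ i ∈ Finset.range r, (c i * (1 + l a * l ((y ^ i)⁻¹ * a * y ^ i))) • (f y ^ i) w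
            = ∑ i ∈ Finset.range r, c i • (f y ^ i) w +
              l a • ∑ i ∈ Finset.range r, (c i * l ((y ^ i)⁻¹ * a * y ^ i)) • (f y ^ i) w := by
              rw [Finset.smul_sum, ← Finset.sum_add_distrib]
              refine Finset.sum_congr rfl fun i _ => ?_
              rw [smul_smul, ← add_smul]
              congr 1
              ring
          _ = 0 := by rw [hcsum, h1, smul_zero, add_zero]
  obtain ⟨c, k, hc0, hcS, hcsum⟩ := key ((Finset.range r).erase 0) fun i hi =>
    ⟨Nat.pos_of_ne_zero (Finset.mem_erase.1 hi).1, Finset.mem_range.1 (Finset.mem_erase.1 hi).2⟩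
  rw [Finset.sum_eq_single 0 (fun i hi hi0 => by rw [hcS i (Finset.mem_erase.2 ⟨hi0, hi⟩), zero_smul])
    (fun hn => absurd (Finset.mem_range.2 hr.pos) hn), hc0, pow_zero] at hcsum
  exact hord2 k hcsum

theorem socle (hns : ¬ Group.IsSolvable G) :
    ∃ M : Subgroup G, M.Normal ∧ IsSimpleGroup M ∧ ¬ Group.IsSolvable M ∧
      centralizer (M : Set G) = ⊥ :=
  exists_socle hns h.ics (rad_eq_bot (fun _ hN ho => h.odd_normal_eq_bot hns hN ho)
    fun _ hN h2 => h.two_normal_eq_bot hns hN h2)

end Spec

end CfsgLib.Recog.ThreeOrders
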