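import Cfsg.Agent.Lib.Recog.ThreeOrders.CaseII.Spec
import Cfsg.Agent.Lib.Recog.ThreeOrders.Extension
import Cfsg.Agent.Lib.KnownC.AutPSLField
import Mathlib.NumberTheory.LegendreSymbol.QuadraticChar.GaussSum

/-!
# The second case: no proper extension of `PSL(2, F)`
-/

set_option autoImplicit false
set_option linter.unusedSectionVars false
set_option linter.style.haveILetI false

namespace CfsgLib.Recog.ThreeOrders

open Matrix CfsgLib.KnownC
open scoped MatrixGroups

universe u

variable {F : Type*} [Field F]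

/-- An upper unitriangular matrix. -/
def uniSL (z : F) : SL(2, F) := ⟨!![1, z; 0, 1], by simp [Matrix.det_fin_two]⟩

theorem uniSL_mul (x y : F) : uniSL x * uniSL y = uniSL (x + y) := Subtype.ext (by
  rw [Matrix.SpecialLinearGroup.coe_mul]
  ext i j
  fin_cases i <;> fin_cases j <;> simp [uniSL, add_comm])

theorem uniSL_map (σ : F ≃+* F) (z : F) :
    GeneralLinearGroup.map (σ : F →+* F) (SpecialLinearGroup.toGL (uniSL z)) =
      SpecialLinearGroup.toGL (uniSL (σ z)) := Units.ext (by
  show (uniSL z).1.map σ = (uniSL (σ z)).1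
  ext i j
  fin_cases i <;> fin_cases j <;> simp [uniSL])

theorem semiAut_uni_eq_one {z : F} :
    semiAut (SpecialLinearGroup.toGL (uniSL z)) (RingEquiv.refl F) = 1 ↔ z = 0 := by
  rw [semiAut_eq_one_iff]
  constructor
  · intro hc
    have := congrArg (fun y : GL (Fin 2) F => y.1 0 0)
      (Subgroup.mem_center_iff.1 hc (SpecialLinearGroup.toGL (swapSL F)))
    simp only [Units.val_mul] at this
    simpa [uniSL, swapSL, Matrix.mul_apply, Fin.sum_univ_two, Matrix.SpecialLinearGroup.toGL] using this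
  · rintro rfl
    rw [show uniSL (0 : F) = 1 from Subtype.ext (by simp [uniSL, Matrix.one_fin_two]), map_one]
    exact one_mem _

/-- The traces are not all zero. -/
theorem exists_trace_two {σ : F ≃+* F} (h2 : (2 : F) = 0) (hσ : σ ≠ 1) : ∃ z, z + σ z ≠ 0 := by
  by_contra hall
  push Not at hall
  exact hσ (RingEquiv.ext fun z => by
    show σ z = z
    linear_combination hall z - z * h2)

theorem exists_trace_three {σ : F ≃+* F} (hσ : σ ≠ 1) (hσ3 : σ * σ * σ = 1) :
    ∃ z, z + σ z + σ (σ z) ≠ 0 := by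
  by_contra hall
  push Not at hall
  have h1 := hall 1
  simp only [map_one] at h1
  refine hσ (RingEquiv.ext fun z => ?_)
  show σ z = z
  by_contra hz
  have key : ∀ x, σ x = σ (σ x) := fun x => by
    have e := hall (z * x)
    simp only [map_mul] at e
    have e' : (σ z - z) * (σ x - σ (σ x)) = 0 := by
      linear_combination e - z * hall x - σ (σ x) * hall z + (σ (σ x)) * z * h1
    rcases mul_eq_zero.1 e' with e' | e'
    · exact absurd (sub_eq_zero.1 e') hz
    · exact sub_eq_zero.1 e'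
  exact hz (σ.injective (key z)).symm

variable {X : Type u} [Group X] [Finite X] {s : ℕ} [Fintype F]

local notation "PS" => Matrix.ProjectiveSpecialLinearGroup (Fin 2) F

namespace Spec

variable (h : Spec X s)
include h

theorem not_nine (x : X) (hs3 : s = 3) : orderOf x ≠ 9 := fun h9 => by
  rcases h.s_order (x := x) (by rw [h9, hs3]; norm_num) with e | e <;> omega

/-- A field automorphism of prime order. -/
theorem field_prime {p f : ℕ} [Fact p.Prime] (hF : Fintype.card F = p ^ f) (hf : 1 ≤ f)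
    (hodd : p ≠ 2 → Odd f) {M : Subgroup X} (A : Act M PS) {v : X} {σ : F ≃+* F}
    (hv : A.ψ v = semiAut 1 σ) : ¬ (orderOf v).Prime := by
  intro hl
  obtain ⟨l, hlv⟩ : ∃ l, orderOf v = l := ⟨_, rfl⟩
  rw [hlv] at hl
  haveI : CharP F p := charP_of_card_eq_prime_pow hF
  have hp : p.Prime := Fact.out
  have hoσ : orderOf σ = l := by rw [← hlv, A.orderOf_eq, hv, orderOf_semiAut_one le_rfl]
  have hlf : l ∣ f := by
    rw [← hoσ, ← (exists_zmod_mulEquiv_ringAut hF).1]
    exact orderOf_dvd_natCard σ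
  have hσ1 : σ ≠ 1 := fun e => hl.ne_one (by rw [← hoσ, e, orderOf_one])
  set t : X := (A.e.symm (QuotientGroup.mk (swapSL F)) : X)
  set w : X := (A.e.symm (QuotientGroup.mk (threeSL F)) : X)
  have ht : orderOf t = 2 := by rw [Subgroup.orderOf_coe, A.e.symm.orderOf_eq, orderOf_swap]
  have hw : orderOf w = 3 := by rw [Subgroup.orderOf_coe, A.e.symm.orderOf_eq, orderOf_three]
  have hvt : Commute v t := A.fix v _ (by rw [A.e.apply_symm_apply, hv, semiAut_fix_swap])
  have hvw : Commute v w := A.fix v _ (by rw [A.e.apply_symm_apply, hv, semiAut_fix_three])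
  have hls : l = 2 ∨ l = s := by
    by_cases hl2 : l = 2
    · exact Or.inl hl2
    · exact Or.inr (h.prime_eq_of_commute hl hl2 hlv ht hvt)
  have hs3 : s = 3 := by
    rcases hls with e | e
    · exact (h.prime_eq_of_commute Nat.prime_three (by norm_num) hw (e ▸ hlv) hvw.symm).symm
    · rcases h.prime_of_commute_s Nat.prime_three hw (e ▸ hlv) hvw.symm with e' | e' <;> omega
  -- the characteristic
  have hp23 : p = l ∨ (p = 2 ∧ l = 3) := by
    by_cases hp2 : p = 2
    · rcases hls with e | e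
      · exact Or.inl (hp2.trans e.symm)
      · exact Or.inr ⟨hp2, e.trans hs3⟩
    have hl3 : l = 3 := by
      rcases hls with e | e
      · exfalso
        subst e
        exact (Nat.not_even_iff_odd.2 (hodd hp2)) (even_iff_two_dvd.2 hlf)
      · exact e.trans hs3
    left
    set u : X := (A.e.symm (QuotientGroup.mk (uniSL (1 : F))) : X)
    have hu : orderOf u = p := by
      rw [Subgroup.orderOf_coe, A.e.symm.orderOf_eq]
      refine orderOf_eq_prime ?_ (mk_ne_one (i := 0) (j := 1) (by decide) (by simp [uniSL]))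
      rw [← QuotientGroup.mk_pow]
      have hpow : ∀ k : ℕ, uniSL (1 : F) ^ k = uniSL (k : F) := by
        intro k
        induction k with
        | zero =>
          rw [pow_zero]
          exact Subtype.ext (by simp [uniSL, Matrix.one_fin_two])
        | succ k ih => rw [pow_succ, ih, uniSL_mul, Nat.cast_succ]
      rw [hpow, CharP.cast_eq_zero F p,
        show uniSL (0 : F) = 1 from Subtype.ext (by simp [uniSL, Matrix.one_fin_two]), QuotientGroup.mk_one]
    have hvu : Commute v u := A.fix v _ (by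
      rw [A.e.apply_symm_apply, hv, semiAut_mk, map_one]
      refine congrArg _ (Subtype.ext ?_)
      show (slField σ (uniSL (1 : F))).1 = _
      rw [slField_coe]
      ext i j
      fin_cases i <;> fin_cases j <;> simp [uniSL])
    rcases h.prime_of_commute_s hp hu (by rw [hlv]; omega) hvu.symm with e | e <;> omega
  rcases hp23 with hpl | ⟨hp2, hl3⟩
  swap
  · -- a torus element of order nine
    subst hp2 hl3
    obtain ⟨k, rfl⟩ := hlf
    have hgcd : Nat.gcd 2 (Fintype.card F - 1) = 1 := by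
      refine Nat.prime_two.coprime_iff_not_dvd.2 ?_
      have : 2 ∣ Fintype.card F := hF ▸ dvd_pow_self 2 (by omega)
      have := Fintype.card_pos (α := F)
      omega
    obtain ⟨g, hg⟩ := CfsgLib.KnownB.SL2.exists_orderOf_psl (F := F) 2 (m := 9) (by
      rw [hgcd, Nat.div_one, Nat.div_one, hF, pow_mul]
      rcases Nat.even_or_odd' k with ⟨i, rfl | rfl⟩
      · refine Or.inr (Or.inl ((by norm_num : (9 : ℕ) ∣ 8 ^ 2 - 1).trans ?_))
        rw [pow_mul (2 ^ 3), show ((2 : ℕ) ^ 3) = 8 from rfl]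
        exact Nat.sub_one_dvd_pow_sub_one (8 ^ 2) i
      · refine Or.inr (Or.inr ((by norm_num : (9 : ℕ) ∣ 8 + 1).trans ?_))
        rw [show ((2 : ℕ) ^ 3) = 8 from rfl, ← one_pow (2 * i + 1)]
        simpa using (Odd.nat_add_dvd_pow_add_pow 8 1 (n := 2 * i + 1) ⟨i, rfl⟩))
    exact h.not_nine (A.e.symm g : X) hs3 (by rw [Subgroup.orderOf_coe, A.e.symm.orderOf_eq, hg])
  subst hpl
  -- an element of order `p * p`
  have hσp : σ ^ p = 1 := by rw [← hoσ, pow_orderOf_eq_one]
  have hx : ∀ z : F, ∃ x, A.ψ x = semiAut (SpecialLinearGroup.toGL (uniSL z)) σ := fun z =>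
    ⟨(A.e.symm (QuotientGroup.mk (uniSL z)) : X) * v, by
      rw [map_mul, A.inner, A.e.apply_symm_apply, hv, conj_eq_semiAut, semiAut_mul, map_one, mul_one]
      rfl⟩
  haveI := Fact.mk hp
  have hfin : ∀ {x : X} {z : F}, A.ψ (x ^ p) = semiAut (SpecialLinearGroup.toGL (uniSL z))
      (RingEquiv.refl F) → z ≠ 0 → orderOf x = p ^ 2 := by
    intro x z hxp hz
    refine orderOf_eq_prime_pow (fun e => hz (semiAut_uni_eq_one.1 ?_)) (A.inj ?_)
    · rw [pow_one] at e
      rw [← hxp, e, map_one]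
    · rw [pow_two, pow_mul, map_pow, hxp, semiAut_refl_pow, ← map_pow, map_one, semiAut_eq_one_iff]
      have hpow : ∀ k : ℕ, uniSL z ^ k = uniSL (k • z) := by
        intro k
        induction k with
        | zero =>
          rw [pow_zero]
          exact Subtype.ext (by simp [uniSL, Matrix.one_fin_two])
        | succ k ih => rw [pow_succ, ih, uniSL_mul, succ_nsmul]
      rw [hpow, show p • z = 0 by rw [nsmul_eq_mul, CharP.cast_eq_zero F p, zero_mul],
        show uniSL (0 : F) = 1 from Subtype.ext (by simp [uniSL, Matrix.one_fin_two]), map_one]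
      exact one_mem _
  rcases hls with hl2 | hls'
  · subst hl2
    obtain ⟨z, hz⟩ := exists_trace_two (show (2 : F) = 0 by exact_mod_cast CharP.cast_eq_zero F 2) hσ1
    obtain ⟨x, hxz⟩ := hx z
    refine h.four x (hfin (z := z + σ z) ?_ hz)
    rw [map_pow, hxz, pow_two, semiAut_mul, uniSL_map, ← map_mul, uniSL_mul, ← pow_two, hσp]
    rfl
  · have h3 : p = 3 := hls'.trans hs3
    subst h3
    have hσ3 : σ * σ * σ = 1 := by rw [← hσp]; simp [pow_succ, mul_assoc]
    obtain ⟨z, hz⟩ := exists_trace_three hσ1 hσ3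
    obtain ⟨x, hxz⟩ := hx z
    refine h.not_nine x hs3 (hfin (z := z + (σ z + σ (σ z))) ?_ (by rwa [← add_assoc]))
    rw [map_pow, hxz, pow_three, semiAut_mul, uniSL_map, ← map_mul, uniSL_mul, semiAut_mul, uniSL_map,
      ← map_mul, uniSL_mul, map_add, ← mul_assoc, hσ3]
    rfl

theorem field_part_trivial {p f : ℕ} [Fact p.Prime] (hF : Fintype.card F = p ^ f) (hf : 1 ≤ f)
    (hodd : p ≠ 2 → Odd f) {M : Subgroup X} (A : Act M PS) {v : X} {σ : F ≃+* F}
    (hv : A.ψ v = semiAut 1 σ) : v = 1 := by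
  by_contra hv1
  obtain ⟨l, hl, hd⟩ := Nat.exists_prime_and_dvd (fun e => hv1 (orderOf_eq_one_iff.1 e))
  refine h.field_prime hF hf hodd A (v := v ^ (orderOf v / l)) (σ := σ ^ (orderOf v / l)) ?_ ?_
  · rw [map_pow, hv, semiAut_one_pow]
  · rw [orderOf_pow_orderOf_div (orderOf_pos v).ne' hd]
    exact hl

theorem psl_two_top {M : Subgroup X} (A : Act M PS)
    (hF : CharP F 2 ∨ Fintype.card F % 8 = 3 ∨ Fintype.card F % 8 = 5) : M = ⊤ := by
  classical
  refine Subgroup.eq_top_iff' _ |>.2 fun x => ?_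
  rcases mulAut_psl_cases le_rfl (A.ψ x) with ⟨g, σ, hx⟩ | ⟨h3, -⟩
  swap
  · omega
  obtain ⟨p, hchar⟩ := CharP.exists F
  haveI := hchar
  obtain ⟨n, hp, hn⟩ := FiniteField.card F p
  haveI := Fact.mk hp
  have hn1 : 1 ≤ (n : ℕ) := n.pos
  have hodd : p ≠ 2 → Odd (n : ℕ) := by
    intro hp2
    rcases hF with h2 | hq
    · exact absurd (CharP.eq F hchar h2) hp2
    rw [← Nat.not_even_iff_odd]
    rintro ⟨k, hk⟩
    rw [hn, hk, ← two_mul, pow_mul'] at hq
    have hpo : (p ^ k) % 2 = 1 := Nat.odd_iff.1 (hp.odd_of_ne_two hp2).pow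
    have h8 : (p ^ k) ^ 2 % 8 = 1 := by
      have : p ^ k % 8 = 1 ∨ p ^ k % 8 = 3 ∨ p ^ k % 8 = 5 ∨ p ^ k % 8 = 7 := by omega
      rw [Nat.pow_mod]
      rcases this with e | e | e | e <;> rw [e]
    omega
  have hsq : ∀ {c : Fˣ}, GeneralLinearGroup.det g = c ^ 2 → x ∈ M := by
    intro c hd
    obtain ⟨q, hq⟩ := exists_conj_semiAut (g₀ := 1) σ (c := c) (g := g) (by rw [map_one, mul_one, hd])
    obtain ⟨v, hv, hvM⟩ := A.exists_shift (hx.trans hq)
    exact hvM (h.field_part_trivial hn hn1 hodd A hv ▸ one_mem M)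
  by_cases hdet : IsSquare ((GeneralLinearGroup.det g : Fˣ) : F)
  · obtain ⟨r, hr⟩ := hdet
    have hr0 : r ≠ 0 := fun e => (GeneralLinearGroup.det g).ne_zero (by rw [hr, e, mul_zero])
    exact hsq (c := Units.mk0 r hr0)
      (Units.ext (by rw [hr, Units.val_pow_eq_pow_val, Units.val_mk0, pow_two]))
  exfalso
  have hp2 : p ≠ 2 := fun e => hdet (by
    subst e
    exact FiniteField.isSquare_of_char_two (ringChar.eq F 2) _)
  have hq : Fintype.card F % 8 = 3 ∨ Fintype.card F % 8 = 5 :=
    hF.resolve_left fun h2 => hp2 (CharP.eq F hchar h2)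
  have h2ns : ¬ IsSquare (2 : F) := fun e => by
    have := FiniteField.isSquare_two_iff.1 e
    omega
  -- an odd power of `x` induces a diagonal automorphism
  have hσodd : Odd (orderOf σ) := (hodd hp2).of_dvd_nat (by
    rw [← (exists_zmod_mulEquiv_ringAut hn).1]
    exact orderOf_dvd_natCard σ)
  have hpow : ∀ k : ℕ, ∃ g' : GL (Fin 2) F, semiAut g σ ^ k = semiAut g' (σ ^ k) ∧
      (IsSquare ((GeneralLinearGroup.det g' : Fˣ) : F) ↔ Even k) := by
    intro k
    induction k with
    | zero => exact ⟨1, by rw [pow_zero, pow_zero]; exact semiAut_one.symm, by simp⟩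
    | succ k ih =>
      obtain ⟨g', hg', hsqk⟩ := ih
      refine ⟨g' * GeneralLinearGroup.map ((σ ^ k : F ≃+* F) : F →+* F) g,
        by rw [pow_succ, hg', semiAut_mul, pow_succ], ?_⟩
      set a := ((GeneralLinearGroup.det g : Fˣ) : F)
      set b := ((GeneralLinearGroup.det g' : Fˣ) : F)
      have e : ((GeneralLinearGroup.det (g' * GeneralLinearGroup.map ((σ ^ k : F ≃+* F) : F →+* F) g) :
          Fˣ) : F) = b * (σ ^ k) a := by
        rw [map_mul, Units.val_mul]
        congr 1
        exact (RingHom.map_det ((σ ^ k : F ≃+* F) : F →+* F) g.1).symm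
      have ha : ¬ IsSquare ((σ ^ k) a) := fun hs => hdet (by
        have := hs.map (σ ^ k).symm
        rwa [RingEquiv.symm_apply_apply] at this)
      have hb0 : b ≠ 0 := (GeneralLinearGroup.det g').ne_zero
      have ha0 : (σ ^ k) a ≠ 0 := fun e =>
        (GeneralLinearGroup.det g).ne_zero ((σ ^ k).injective (e.trans (map_zero _).symm))
      rw [e, Nat.even_add_one, ← hsqk]
      constructor
      · intro hs hb
        exact ha (by have := hb.inv.mul hs; rwa [inv_mul_cancel_left₀ hb0] at this)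
      · intro hb
        rw [← quadraticChar_one_iff_isSquare (mul_ne_zero hb0 ha0), map_mul,
          quadraticChar_neg_one_iff_not_isSquare.2 hb, quadraticChar_neg_one_iff_not_isSquare.2 ha]
        rfl
  obtain ⟨g', hg', hns⟩ := hpow (orderOf σ)
  rw [pow_orderOf_eq_one] at hg'
  have hg'ns : ¬ IsSquare ((GeneralLinearGroup.det g' : Fˣ) : F) :=
    fun e => (Nat.not_even_iff_odd.2 hσodd) (hns.1 e)
  let g₀ : GL (Fin 2) F := GeneralLinearGroup.mk' !![1, 1; -1, 1]
    (invertibleOfNonzero (by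
      rw [Matrix.det_fin_two_of]
      intro e
      exact h2ns ⟨0, by linear_combination e⟩))
  obtain ⟨c, hc⟩ : ∃ c : Fˣ, GeneralLinearGroup.det g' = c ^ 2 * GeneralLinearGroup.det g₀ := by
    have hg0 : ((GeneralLinearGroup.det g₀ : Fˣ) : F) = 2 := by
      show (!![1, 1; -1, 1] : Matrix (Fin 2) (Fin 2) F).det = 2
      rw [Matrix.det_fin_two_of]
      ring
    obtain ⟨r, hr⟩ : IsSquare ((((GeneralLinearGroup.det g' / GeneralLinearGroup.det g₀) : Fˣ)) : F) := by
      rw [Units.val_div_eq_div_val, hg0, div_eq_mul_inv,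
        ← quadraticChar_one_iff_isSquare (by
          exact mul_ne_zero (GeneralLinearGroup.det g').ne_zero (inv_ne_zero fun e => h2ns ⟨0, by
            rw [e, mul_zero]⟩)),
        map_mul, quadraticChar_neg_one_iff_not_isSquare.2 hg'ns,
        quadraticChar_neg_one_iff_not_isSquare.2 (fun hi => h2ns (by simpa using hi.inv))]
      rfl
    have hr0 : r ≠ 0 := fun e => ((GeneralLinearGroup.det g' / GeneralLinearGroup.det g₀) : Fˣ).ne_zero
      (by rw [hr, e, mul_zero])
    refine ⟨Units.mk0 r hr0, ?_⟩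
    rw [show (Units.mk0 r hr0) ^ 2 = GeneralLinearGroup.det g' / GeneralLinearGroup.det g₀ from
      Units.ext (by rw [hr, Units.val_pow_eq_pow_val, Units.val_mk0, pow_two]), div_mul_cancel]
  obtain ⟨q, hq'⟩ := exists_conj_semiAut (1 : F ≃+* F) (g := g') (g₀ := g₀) (c := c) hc
  obtain ⟨v, hv, -⟩ := A.exists_shift (x := x ^ orderOf σ) (by rw [map_pow, hx, hg', hq'])
  refine h.four v ?_
  have hsq0 : (g₀ ^ 2).1 = !![0, 2; -2, 0] := by
    rw [Units.val_pow_eq_pow_val, pow_two]
    show (!![1, 1; -1, 1] : Matrix (Fin 2) (Fin 2) F) * !![1, 1; -1, 1] = _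
    ext i j
    fin_cases i <;> fin_cases j <;> simp [one_add_one_eq_two] <;> ring
  have hψ : ∀ k : ℕ, A.ψ (v ^ k) = semiAut (g₀ ^ k) (RingEquiv.refl F) := fun k => by
    rw [map_pow, hv]
    exact semiAut_refl_pow g₀ k
  haveI : Fact (Nat.Prime 2) := ⟨Nat.prime_two⟩
  show orderOf v = 2 ^ (1 + 1)
  refine orderOf_eq_prime_pow (fun e => ?_) (A.inj ?_)
  · rw [pow_one] at e
    have h1 : semiAut (g₀ ^ 2) (RingEquiv.refl F) = 1 := by rw [← hψ, e, map_one]
    have := congrArg (fun y : GL (Fin 2) F => y.1 0 0)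
      (Subgroup.mem_center_iff.1 (semiAut_eq_one_iff.1 h1) (SpecialLinearGroup.toGL (uniSL (1 : F))))
    simp only [Units.val_mul, hsq0] at this
    simp [uniSL, Matrix.mul_apply, Fin.sum_univ_two, Matrix.SpecialLinearGroup.toGL] at this
    exact h2ns ⟨0, by rw [this, mul_zero]⟩
  · rw [hψ, map_one, semiAut_eq_one_iff, show (2 : ℕ) ^ (1 + 1) = 2 * 2 from rfl, pow_mul]
    refine Subgroup.mem_center_iff.2 fun y => Units.ext ?_
    rw [Units.val_mul, Units.val_mul, Units.val_pow_eq_pow_val, hsq0, pow_two]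
    ext i j
    fin_cases i <;> fin_cases j <;> simp [Matrix.mul_apply, Fin.sum_univ_two] <;> ring

end Spec

end CfsgLib.Recog.ThreeOrders
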