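import Cfsg.Agent.Lib.Recog.ThreeOrders.CaseII.Ext
import Cfsg.Agent.Lib.Recog.ThreeOrders.CaseII.Engine.Main
import Cfsg.Agent.Lib.Recog.ThreeOrders.Simple

/-!
# Non-solvable groups of the second case are `PSL₂(q)`, `q ≡ 3, 5 (mod 8)`
-/

set_option autoImplicit false
set_option linter.unusedSectionVars false
set_option linter.style.haveILetI false

namespace CfsgLib.Recog.ThreeOrders

open Subgroup Matrix CfsgLib.Invol
open scoped MatrixGroups

universe u

/-- `PSL(3, 4)` has an element of order four. -/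
theorem exists_four_psl_three {F : Type} [Field F] [Fintype F] (hF : Fintype.card F = 4) :
    ∃ g : Matrix.ProjectiveSpecialLinearGroup (Fin 3) F, orderOf g = 4 := by
  haveI := Fact.mk Nat.prime_two
  haveI : CharP F 2 := charP_of_card_eq_prime_pow (f := 2) (hF.trans (by norm_num))
  have h2 : (2 : F) = 0 := by exact_mod_cast CharP.cast_eq_zero F 2
  let A : SL(3, F) := ⟨!![1, 1, 0; 0, 1, 1; 0, 0, 1], by simp [Matrix.det_fin_three]⟩
  have hA2 : (A ^ 2).1 = !![1, 0, 1; 0, 1, 0; 0, 0, 1] := by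
    rw [pow_two, Matrix.SpecialLinearGroup.coe_mul]
    ext i j
    fin_cases i <;> fin_cases j <;> simp [A, Matrix.mul_apply, Fin.sum_univ_three] <;>
      linear_combination h2
  refine ⟨QuotientGroup.mk A, ?_⟩
  show orderOf _ = 2 ^ (1 + 1)
  refine orderOf_eq_prime_pow (fun e => ?_) ?_
  · rw [pow_one, ← QuotientGroup.mk_pow, QuotientGroup.eq_one_iff,
      Matrix.SpecialLinearGroup.mem_center_iff] at e
    obtain ⟨r, -, hr⟩ := e
    rw [hA2] at hr
    have := congrFun (congrFun hr 0) 2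
    simp at this
  · rw [← QuotientGroup.mk_pow, show (2 : ℕ) ^ (1 + 1) = 2 * 2 from rfl, pow_mul]
    refine (QuotientGroup.eq_one_iff _).2 ?_
    rw [show (A ^ 2) ^ 2 = 1 from Subtype.ext (by
      rw [pow_two, Matrix.SpecialLinearGroup.coe_mul, hA2, Matrix.SpecialLinearGroup.coe_one]
      ext i j
      fin_cases i <;> fin_cases j <;> simp [Matrix.mul_apply, Fin.sum_univ_three] <;>
        linear_combination h2)]
    exact one_mem _

variable {G : Type u} [Group G] [Finite G] {s : ℕ}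

theorem Spec.not_cit (h : Spec G s) : ¬ CIT.IsCIT G := fun hc => by
  haveI : Fact (Nat.Prime 2) := ⟨Nat.prime_two⟩
  obtain ⟨x, hx⟩ := h.wit
  have ht : orderOf (x ^ s) = 2 := by
    rw [orderOf_pow_of_dvd h.hs.ne_zero (hx ▸ dvd_mul_left s 2), hx, Nat.mul_div_cancel 2 h.hs.pos]
  obtain ⟨k, hk⟩ := IsPGroup.iff_orderOf.1 (hc _ ht)
    ⟨x, mem_centralizer_singleton_iff.2 ((Commute.refl x).pow_right s).eq⟩
  rw [Subgroup.orderOf_mk, hx] at hk
  exact h.s_ne_two ((Nat.prime_dvd_prime_iff_eq h.hs Nat.prime_two).1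
    (h.hs.dvd_of_dvd_pow (hk ▸ dvd_mul_left s 2)))

theorem case_two (h : Spec G s) (hns : ¬ Group.IsSolvable G) :
    ∃ (F : Type) (_ : Field F) (_ : Fintype F), 5 < Fintype.card F ∧
      (Fintype.card F % 8 = 3 ∨ Fintype.card F % 8 = 5) ∧
      ((Fintype.card F + 1) / 2).primeFactorsList.length ≤ 2 ∧
      ((Fintype.card F - 1) / 2).primeFactorsList.length ≤ 2 ∧
      Nonempty (G ≃* Matrix.ProjectiveSpecialLinearGroup (Fin 2) F) := by
  obtain ⟨M, hMn, hMs, hMns, hMC⟩ := h.socle hns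
  haveI := hMn
  haveI := hMs
  have no4 : ∀ {P : Type} [Group P], (M ≃* P) → ∀ g : P, orderOf g ≠ 4 := fun {P} _ e g hg =>
    h.four ((e.symm g : M) : G) (by rw [Subgroup.orderOf_coe, e.symm.orderOf_eq, hg])
  by_cases hc : CIT.IsCIT M
  · exfalso
    rcases cit_simple hMns (h.h3.subgroup M) hc with
      ⟨F, _, _, hF2, -, -, -, ⟨e⟩⟩ | ⟨F, _, _, hF, ⟨e⟩⟩ | ⟨F, _, _, hF, ⟨e⟩⟩ |
        ⟨F, _, _, m, hm, hF, -, -, -, ⟨e⟩⟩
    · obtain ⟨A⟩ := exists_act M hMC e
      have hM : M = ⊤ := h.psl_two_top A (Or.inl hF2)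
      obtain ⟨x, hx⟩ := h.wit
      have hxM : x ∈ M := hM ▸ mem_top x
      exact (h.subgroup_of_wit (K := M) ⟨x, hxM, hx⟩).not_cit hc
    · rcases hF with hF | hF
      · haveI := Fact.mk (show Nat.Prime 7 by norm_num)
        haveI : CharP F 7 := charP_of_card_eq_prime_pow (f := 1) (hF.trans (pow_one 7).symm)
        obtain ⟨g, hg⟩ := CfsgLib.KnownB.SL2.exists_orderOf_psl (F := F) 7 (m := 4)
          (Or.inr (Or.inr (by rw [hF]; decide)))
        exact no4 e g hg
      · haveI := Fact.mk Nat.prime_three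
        haveI : CharP F 3 := charP_of_card_eq_prime_pow (f := 2) (hF.trans (by norm_num))
        obtain ⟨g, hg⟩ := CfsgLib.KnownB.SL2.exists_orderOf_psl (F := F) 3 (m := 4)
          (Or.inr (Or.inl (by rw [hF]; decide)))
        exact no4 e g hg
    · obtain ⟨g, hg⟩ := exists_four_psl_three hF
      exact no4 e g hg
    · haveI := Fact.mk Nat.prime_two
      haveI : CharP F 2 := charP_of_card_eq_prime_pow hF
      exact no4 e _ (CfsgLib.Suzuki.orderOf_tG_of_ne_zero (CfsgLib.Suzuki.thSq_of_card hF) one_ne_zero 0)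
  obtain ⟨l, hl⟩ := exists_spec (h.h3.subgroup M) hc
  obtain ⟨F, _, _, hodd, ⟨e⟩⟩ := Engine.psl ⟨hl, hMs⟩
  obtain ⟨p, hchar⟩ := CharP.exists F
  haveI := hchar
  obtain ⟨n, hp, hn⟩ := FiniteField.card F p
  haveI := Fact.mk hp
  have hmod : Fintype.card F % 2 = 1 := Nat.odd_iff.1 hodd
  have hgcd : Nat.gcd 2 (Fintype.card F - 1) = 2 := Nat.gcd_eq_left (by omega)
  have h1 : 1 < Fintype.card F := Fintype.one_lt_card
  have hq8 : Fintype.card F % 8 = 3 ∨ Fintype.card F % 8 = 5 := by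
    by_contra hne
    obtain ⟨g, hg⟩ := CfsgLib.KnownB.SL2.exists_orderOf_psl (F := F) p (m := 4) (by
      rw [hgcd]
      rcases (show Fintype.card F % 8 = 1 ∨ Fintype.card F % 8 = 7 by omega) with e8 | e8
      · exact Or.inr (Or.inl (by omega))
      · exact Or.inr (Or.inr (by omega)))
    exact no4 e g hg
  have h5 : 5 < Fintype.card F := by
    by_contra hle
    rcases (show Fintype.card F = 3 ∨ Fintype.card F = 5 by omega) with hq | hq
    · refine (EPPOSimple.not_card_six_or_twelve (G := M) fun hh => hMns (Group.isSolvable_of_comm hh.is_comm.comm)).2 ?_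
      exact (Nat.card_congr e.toEquiv).trans (CfsgLib.Classical.card_psl_two_eq hq 12 (by decide))
    · obtain ⟨x, hx⟩ := hl.wit
      have hl2 := hl.two_le
      have hp5 : p = 5 := by
        have h5 : Nat.Prime 5 := by norm_num
        exact ((Nat.prime_dvd_prime_iff_eq hp h5).1 (hq ▸ hn ▸ dvd_pow_self p n.pos.ne'))
      rcases CfsgLib.KnownB.SL2.orderOf_psl_cases (F := F) p (e x) with hd | hd | hd <;>
        rw [e.orderOf_eq, hx] at hd
      · have := Nat.le_of_dvd hp.pos hd; omega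
      · rw [hgcd, hq] at hd; have := Nat.le_of_dvd (by norm_num) hd; omega
      · rw [hgcd, hq] at hd; have := Nat.le_of_dvd (by norm_num) hd; omega
  have hM3 : H3 M := h.h3.subgroup M
  have hlen : ∀ m : ℕ, (∃ g : Matrix.ProjectiveSpecialLinearGroup (Fin 2) F, orderOf g = m) →
      m.primeFactorsList.length ≤ 2 := fun m ⟨g, hg⟩ =>
    hM3.length_le (x := e.symm g) (by rw [e.symm.orderOf_eq, hg])
  obtain ⟨A⟩ := exists_act M hMC e
  have hM : M = ⊤ := h.psl_two_top A (Or.inr hq8)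
  exact ⟨F, inferInstance, inferInstance, h5, hq8,
    hlen _ (CfsgLib.KnownB.SL2.exists_orderOf_psl p (Or.inr (Or.inr (by rw [hgcd])))),
    hlen _ (CfsgLib.KnownB.SL2.exists_orderOf_psl p (Or.inr (Or.inl (by rw [hgcd])))),
    ⟨(Subgroup.topEquiv.symm.trans (MulEquiv.subgroupCongr hM.symm)).trans e⟩⟩

end CfsgLib.Recog.ThreeOrders
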