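import Cfsg.Agent.Lib.Recog.ThreeOrders.Basic
import Cfsg.Agent.Lib.Recog.ThreeOrders.Socle
import Cfsg.Agent.Lib.Char.Burnside

/-!
# Groups with an element of order `2 * s` and no element of order four
-/

set_option autoImplicit false
set_option linter.unusedSectionVars false
set_option linter.style.haveILetI false

namespace CfsgLib.Recog.ThreeOrders

open Subgroup CfsgLib.Invol

universe u

variable {G : Type u} [Group G] [Finite G] {s : ℕ}

/-- The hypotheses of the second case. -/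
structure Spec (G : Type u) [Group G] (s : ℕ) : Prop where
  h3 : H3 G
  hs : s.Prime
  s_ne_two : s ≠ 2
  four : ∀ x : G, orderOf x ≠ 4
  wit : ∃ x : G, orderOf x = 2 * s

theorem exists_spec (h : H3 G) (hc : ¬ CfsgLib.Invol.CIT.IsCIT G) : ∃ s, Spec G s := by
  obtain ⟨t, ht, hn⟩ : ∃ t : G, orderOf t = 2 ∧ ¬ IsPGroup 2 (centralizer ({t} : Set G)) := by
    unfold CfsgLib.Invol.CIT.IsCIT at hc
    push Not at hc
    exact hc
  obtain ⟨s, hs, hs2, hd⟩ : ∃ s : ℕ, s.Prime ∧ s ≠ 2 ∧ s ∣ Nat.card ↥(centralizer ({t} : Set G)) := by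
    by_contra! hall
    exact hn (IsPGroup.of_card (n := (Nat.card ↥(centralizer ({t} : Set G))).primeFactorsList.length)
      (Nat.eq_prime_pow_of_unique_prime_dvd Nat.card_pos.ne' fun {d} hd hdd => by
        by_contra hd2
        exact hall d hd hd2 hdd))
  haveI := Fact.mk hs
  obtain ⟨x, hx⟩ := exists_prime_orderOf_dvd_card' (G := centralizer ({t} : Set G)) s hd
  rw [← Subgroup.orderOf_coe] at hx
  refine ⟨s, h, hs, hs2, fun z hz => hc (h.cit_of_four hz), (x : G) * t, ?_⟩
  rw [Commute.orderOf_mul_eq_mul_orderOf_of_coprime (mem_centralizer_singleton_iff.1 x.2)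
    (by rw [hx, ht]; exact (Nat.coprime_primes hs Nat.prime_two).2 hs2), hx, ht, mul_comm]

namespace Spec

theorem subgroup_of_wit (h : Spec G s) {K : Subgroup G} (hK : ∃ x ∈ K, orderOf x = 2 * s) : Spec K s :=
  ⟨h.h3.subgroup K, h.hs, h.s_ne_two, fun x => by rw [← Subgroup.orderOf_coe]; exact h.four _, by
    obtain ⟨x, hx, e⟩ := hK
    exact ⟨⟨x, hx⟩, by rw [Subgroup.orderOf_mk, e]⟩⟩

variable (h : Spec G s)
include h

theorem s_odd : Odd s := h.hs.odd_of_ne_two h.s_ne_two

theorem two_le : 3 ≤ s := by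
  have := h.hs.two_le
  have := h.s_ne_two
  omega

theorem exists_invol : ∃ t : G, orderOf t = 2 := by
  obtain ⟨x, hx⟩ := h.wit
  exact exists_orderOf_of_dvd (hx ▸ dvd_mul_right 2 s)

theorem exists_s : ∃ t : G, orderOf t = s := by
  obtain ⟨x, hx⟩ := h.wit
  exact exists_orderOf_of_dvd (hx ▸ dvd_mul_left s 2)

theorem even_order {x : G} (hx : 2 ∣ orderOf x) : orderOf x = 2 ∨ orderOf x = 2 * s := by
  obtain ⟨t, ht⟩ := h.exists_invol
  obtain ⟨w, hw⟩ := h.wit
  have := h.hs.two_le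
  by_cases hx2 : orderOf x = 2
  · exact Or.inl hx2
  · exact Or.inr ((h.h3.two_orders ht hx (hw ▸ dvd_mul_right 2 s) hx2 (by omega)).trans hw)

theorem s_order {x : G} (hx : s ∣ orderOf x) : orderOf x = s ∨ orderOf x = 2 * s := by
  by_contra hne
  push Not at hne
  refine h.h3.not_three h.hs (a := s) (b := 2 * s) (c := orderOf x) ?_ (Ne.symm hne.2) (Ne.symm hne.1)
    h.exists_s h.wit ⟨x, rfl⟩ dvd_rfl (dvd_mul_left s 2) hx
  have := h.hs.two_le
  omega

theorem sq_of_two_pow {x : G} (hx : ∃ k, x ^ 2 ^ k = 1) : x * x = 1 := by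
  by_cases h1 : x = 1
  · rw [h1, one_mul]
  obtain ⟨k, hk⟩ := hx
  obtain ⟨i, -, hi⟩ := (Nat.dvd_prime_pow Nat.prime_two).1 (orderOf_dvd_of_pow_eq_one hk)
  rcases i with _ | i
  · exact absurd (orderOf_eq_one_iff.1 hi) h1
  rcases h.even_order (hi ▸ dvd_pow_self 2 i.succ_ne_zero) with e | e
  · exact invol_mul_self e
  · exfalso
    have hd : s ∣ 2 ^ (i + 1) := ⟨2, by rw [← hi, e, mul_comm]⟩
    exact h.s_ne_two ((Nat.prime_dvd_prime_iff_eq h.hs Nat.prime_two).1 (h.hs.dvd_of_dvd_pow hd))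

theorem sylow_sq (T : Sylow 2 G) {x : G} (hx : x ∈ (T : Subgroup G)) : x * x = 1 := by
  obtain ⟨k, hk⟩ := T.isPGroup' ⟨x, hx⟩
  exact h.sq_of_two_pow ⟨k, congrArg Subtype.val hk⟩

theorem sylow_comm (T : Sylow 2 G) {x y : G} (hx : x ∈ (T : Subgroup G)) (hy : y ∈ (T : Subgroup G)) :
    Commute x y := by
  have hxy := h.sylow_sq T (mul_mem hx hy)
  show x * y = y * x
  calc x * y = (x * y)⁻¹ := eq_inv_of_mul_eq_one_left hxy
    _ = y⁻¹ * x⁻¹ := mul_inv_rev x y
    _ = y * x := by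
      rw [inv_eq_of_mul_eq_one_right (h.sylow_sq T hx), inv_eq_of_mul_eq_one_right (h.sylow_sq T hy)]

/-- An element of odd prime order commuting with an involution has order `s`. -/
theorem prime_eq_of_commute {x t : G} {q : ℕ} (hq : q.Prime) (hq2 : q ≠ 2) (hx : orderOf x = q)
    (ht : orderOf t = 2) (hc : Commute x t) : q = s := by
  have hxt : orderOf (x * t) = q * 2 := by
    rw [hc.orderOf_mul_eq_mul_orderOf_of_coprime
      (by rw [hx, ht]; exact (Nat.coprime_primes hq Nat.prime_two).2 hq2), hx, ht]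
  rcases h.even_order (hxt ▸ dvd_mul_left 2 q) with e | e
  · have := hq.two_le; omega
  · omega

/-- Only `2` and `s` occur in the centraliser of an element of order `s`. -/
theorem prime_of_commute_s {x v : G} {q : ℕ} (hq : q.Prime) (hx : orderOf x = q) (hv : orderOf v = s)
    (hc : Commute x v) : q = 2 ∨ q = s := by
  by_contra hne
  push Not at hne
  have hxv : orderOf (x * v) = q * s := by
    rw [hc.orderOf_mul_eq_mul_orderOf_of_coprime
      (by rw [hx, hv]; exact (Nat.coprime_primes hq h.hs).2 hne.2), hx, hv]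
  have := h.hs.two_le
  have := hq.two_le
  rcases h.s_order (hxv ▸ dvd_mul_left s q) with e | e
  · rw [hxv] at e
    nlinarith
  · rw [hxv] at e
    exact hne.1 (Nat.eq_of_mul_eq_mul_right h.hs.pos e)

theorem solvable_of_primes {K : Subgroup G}
    (hK : ∀ (x : K) (q : ℕ), q.Prime → orderOf x = q → q = 2 ∨ q = s) : Group.IsSolvable K := by
  obtain ⟨a, m, hm, hcard⟩ :=
    Nat.exists_eq_pow_mul_and_not_dvd (Nat.card_pos (α := K)).ne' 2 (by norm_num)
  have hm' : m = s ^ m.primeFactorsList.length := by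
    refine Nat.eq_prime_pow_of_unique_prime_dvd (fun e => hm (e ▸ dvd_zero 2)) fun {d} hd hdm => ?_
    haveI := Fact.mk hd
    obtain ⟨x, hx⟩ := exists_prime_orderOf_dvd_card' (G := K) d (hcard ▸ hdm.mul_left _)
    exact (hK x d hd hx).resolve_left fun e => hm (e ▸ hdm)
  exact CfsgLib.Char.burnside_pq 2 s Nat.prime_two h.hs a _ K (hm' ▸ hcard)

theorem ics : IsICS G := fun t ht => h.solvable_of_primes fun x q hq hx => by
  by_cases hq2 : q = 2
  · exact Or.inl hq2
  · exact Or.inr (h.prime_eq_of_commute hq hq2 (by rw [Subgroup.orderOf_coe, hx]) ht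
      (mem_centralizer_singleton_iff.1 x.2))

theorem centralizer_s_solvable {v : G} (hv : orderOf v = s) {K : Subgroup G}
    (hK : ∀ x ∈ K, Commute x v) : Group.IsSolvable K :=
  h.solvable_of_primes fun x q hq hx =>
    h.prime_of_commute_s hq (by rw [Subgroup.orderOf_coe, hx]) hv (hK x x.2)

end Spec

end CfsgLib.Recog.ThreeOrders
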